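import Cfsg.Agent.H859.K547.Base
import Cfsg.Agent.H38.K4.HN
import Cfsg.Agent.H443.HN.Row
import Cfsg.Agent.KFacts.HN.Classes
import Cfsg.Agent.KFacts.HN.Sheet

/-!
# S4547, the row `HN` (helper859)

* `d3` : a Sylow 2-subgroup of `HN` maps onto an elementary abelian group of order 16;
* `ginv3` : the trivial character and the constituents of degrees 16929 and 653125 of the permutation character of
  degree 1539000 are good and invariant under all automorphisms.
-/

set_option autoImplicit false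
set_option linter.style.longLine false

namespace Cfsg.Agent.H859.K547.HN

open Cfsg Cfsg.Agent.H821.K547 Cfsg.Agent.H601.K4 Cfsg.Agent.Characters.Core
open Cfsg.Agent.HN.PC Cfsg.Agent.HN.TGroup Cfsg.Agent.HN.TSyl Cfsg.Agent.KFacts.HN

universe u

/-! ### the Sylow 2-subgroup -/

open Cfsg.Agent.KFacts.HN.YTrick (hinj)
open Cfsg.Agent.KFacts.HN.Classes (T mem_T)

open scoped commutatorElement

theorem comm_mem {x y : Cfsg.Spor.HN} (hx : x ∈ Pc s 14) (hy : y ∈ Pc s 14) : ⁅x, y⁆ ∈ Pc s 10 := by
  have h := commutator_eq hinj (k := 14) (l := 10) le_rfl le_rfl (by decide) (by decide)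
  rw [← h]
  exact Subgroup.commutator_mem_commutator hx hy

theorem sq_mem {x : Cfsg.Spor.HN} (hx : x ∈ Pc s 14) : x * x ∈ Pc s 10 := by
  have hx' := hx
  rw [← closure_S4] at hx'
  clear hx
  induction hx' using Subgroup.closure_induction with
  | mem y hy =>
    obtain ⟨i, ⟨h1, h2⟩, rfl⟩ := hy
    rw [Cfsg.Agent.HN.TRel.sq_one hinj i h1 h2]
    exact one_mem _
  | one => rw [mul_one]; exact one_mem _
  | mul a b ha hb iha ihb =>
    rw [closure_S4] at ha hb
    have e : a * b * (a * b) = (a * a) * ⁅a⁻¹, b⁆ * (b * b) := by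
      rw [commutatorElement_def]; group
    rw [e]
    exact mul_mem (mul_mem iha (comm_mem (inv_mem ha) hb)) ihb
  | inv a ha iha =>
    have e : a⁻¹ * a⁻¹ = (a * a)⁻¹ := by group
    rw [e]
    exact inv_mem iha

/-- **the Sylow 2-subgroups of `HN` need four generators** -/
theorem d3_HN : D3 Cfsg.Spor.HN := by
  refine d3_of_sylow T ?_
  set N : Subgroup T := (Pc s 10).subgroupOf (T : Subgroup Cfsg.Spor.HN) with hN
  have hn : N.Normal := by
    refine ⟨fun n hn g => ?_⟩
    rw [hN, Subgroup.mem_subgroupOf] at hn ⊢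
    exact norm hinj (by norm_num) (mem_T.1 g.2) hn
  refine rk_of_normal N (fun x => ?_) ?_
  · rw [hN, Subgroup.mem_subgroupOf]
    exact sq_mem (mem_T.1 x.2)
  · have h1 := N.card_mul_index
    have h2 : Nat.card N = 2 ^ 10 := by
      rw [hN, Nat.card_congr (Subgroup.subgroupOfEquivOfLe (show Pc s 10 ≤ (T : Subgroup Cfsg.Spor.HN) from
        Pc_mono (by norm_num))).toEquiv]
      exact card_Pc hinj (by norm_num)
    have h3 : Nat.card T = 2 ^ 14 := by
      have : Nat.card T = Nat.card (Pc s 14) := rfl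
      rw [this]
      exact card_Pc14 hinj
    rw [h2, h3] at h1
    omega

/-! ### the invariant characters -/

open Cfsg.Agent.H443.HN.Frame Cfsg.Agent.H443.HN.Scheme Cfsg.Agent.H187.Scheme.HN

/-- the permutation character is invariant -/
theorem fix_aut (α : MulAut G) (g : G) :
    Nat.card (MulAction.fixedBy V (α g)) = Nat.card (MulAction.fixedBy V g) := by
  obtain ⟨c, hc⟩ := Cfsg.Agent.H443.HN.Row.exists_conj α
  symm
  refine Nat.card_congr (Equiv.subtypeEquiv (sgp α c hc) fun x => ?_)
  have h1 : sg α c (g • x) = α g • sg α c x := by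
    induction x using QuotientGroup.induction_on with | H y => ?_
    have e : g • ((y : G) : V) = ((g * y : G) : V) := rfl
    rw [e, sg_mk α c hc, sg_mk α c hc, map_mul]
    show _ = ((α g * (α y * c) : G) : V)
    rw [mul_assoc]
  rw [MulAction.mem_fixedBy, MulAction.mem_fixedBy, sgp_apply, ← h1]
  exact (sg_inj α c hc).eq_iff.symm

/-- **three characters of `HN`, invariant under all automorphisms** -/
theorem inv3 : ∃ b c : G → ℂ, (OddIrr b ∧ SigFix b) ∧ (OddIrr c ∧ SigFix c) ∧ charDegree b = 16929 ∧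
    charDegree c = 653125 ∧ ∀ (α : MulAut G) (g : G), b (α g) = b g ∧ c (α g) = c g := by
  have := Fintype.ofFinite G
  obtain ⟨χ, N, h1, h2, h3, h4, h5, h6, h7⟩ := Cfsg.Agent.H38.K4.HN.chars_rat
  have hirr : ∀ s, N s s = 1 → IsIrrCharacter G (χ s) := fun s h =>
    isIrr_of_classInner_self (h1 s) (by rw [h5, h, Nat.cast_one])
  have hne : N 1 1 ≠ 1 := by
    intro h
    have h8 := Blocks.Knorr.charDegree_dvd (hirr 1 h)
    rw [Cfsg.Agent.H38.K4.charDegree_eq (h2 1), Cfsg.Agent.H38.K4.HN.card_G] at h8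
    revert h8
    show ¬ (12749 ∣ 273030912000000)
    norm_num
  simp only [Fin.sum_univ_eight] at h7
  have e0 := h6 0
  have e1 := h6 1
  have e2 := h6 2
  have e3 := h6 3
  have e4 := h6 4
  have e5 := h6 5
  have e6 := h6 6
  have e7 := h6 7
  have hN1 : N 1 1 = 2 := by omega
  have hN : ∀ s : Fin 8, s ≠ 1 → N s s = 1 := by
    intro s hs
    fin_cases s
    · show N 0 0 = 1; omega
    · exact absurd rfl hs
    · show N 2 2 = 1; omega
    · show N 3 3 = 1; omega
    · show N 4 4 = 1; omega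
    · show N 5 5 = 1; omega
    · show N 6 6 = 1; omega
    · show N 7 7 = 1; omega
  obtain ⟨a, b, ha, -, hb, -, hab⟩ := Cfsg.Agent.H38.K4.norm_two (h1 1) (by rw [h5, hN1]; norm_num) (h2 1) (by decide)
    (h4 1)
  have hdeg : charDegree a + charDegree b = 12749 := by
    have h8 := congrFun hab 1
    rw [h2 1, Pi.add_apply, Cfsg.Agent.Blocks.Basic.irr_one_eq_charDegree ha.1.1,
      Cfsg.Agent.Blocks.Basic.irr_one_eq_charDegree hb] at h8
    have h9 : nn 1 = charDegree a + charDegree b := by exact_mod_cast h8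
    exact h9.symm
  -- invariance
  have key : ∀ s : Fin 8, s ≠ 1 → 12749 < nn s → (∀ t, nn t = nn s → t = s) → ∀ (α : MulAut G) (g : G),
      χ s (α g) = χ s g := by
    intro s hs hbig huniq α g
    have hi := hirr s (hN s hs)
    set ψ : G → ℂ := fun g => χ s (α g) with hψ
    have hψi : IsIrrCharacter G ψ := isIrr_comp α.toMonoidHom α.surjective hi
    have hψd : charDegree ψ = nn s := by
      apply Cfsg.Agent.H38.K4.charDegree_eq
      show χ s (α 1) = _
      rw [map_one]
      exact h2 s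
    by_contra hcon
    have hz : ∀ t, classInner (χ t) ψ = 0 := by
      intro t
      by_cases ht : t = 1
      · subst ht
        rw [hab, classInner_add_left, classInner_irr_ne ha.1.1 hψi, classInner_irr_ne hb hψi, add_zero]
        · intro h
          rw [h] at hdeg
          omega
        · intro h
          rw [h] at hdeg
          omega
      · refine classInner_irr_ne (hirr t (hN t ht)) hψi fun h => ?_
        have h9 : nn t = nn s := by
          rw [← hψd, ← h]
          exact (Cfsg.Agent.H38.K4.charDegree_eq (h2 t)).symm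
        have h10 := huniq t h9
        subst h10
        exact hcon (congrFun h g).symm
    -- the multiplicity in the permutation character
    set π : G → ℂ := ∑ t, χ t with hπ
    have hπα : π ∘ α = π := by
      funext g
      show π (α g) = π g
      rw [hπ, Finset.sum_apply, Finset.sum_apply, h3, h3, fix_aut]
    have hsum : ∀ φ : G → ℂ, classInner π φ = ∑ t, classInner (χ t) φ := fun φ =>
      classInner_sum_left _ _ _
    have h8 : classInner π ψ = 0 := by
      rw [hsum]
      exact Finset.sum_eq_zero fun t _ => hz t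
    have h9 : classInner π ψ = classInner π (χ s) := by
      have h10 := Cfsg.Agent.Characters.Clifford.classInner_comp_mulEquiv α π (χ s)
      rw [hπα] at h10
      exact h10
    have h10 : classInner π (χ s) = ((∑ t, N t s : ℕ) : ℂ) := by
      rw [hsum]
      push_cast
      exact Finset.sum_congr rfl fun t _ => h5 t s
    rw [h9, h10] at h8
    have h11 : ∑ t, N t s = 0 := by exact_mod_cast h8
    have h12 := Finset.single_le_sum (f := fun t => N t s) (fun t _ => Nat.zero_le _) (Finset.mem_univ s)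
    have h13 := h6 s
    omega
  have d2 : nn 2 = 16929 := rfl
  have d4 : nn 4 = 653125 := rfl
  have u2 : ∀ t, nn t = nn 2 → t = 2 := by decide
  have u4 : ∀ t, nn t = nn 4 → t = 4 := by decide
  refine ⟨χ 2, χ 4, Cfsg.Agent.H38.K4.of_rat (hirr 2 (hN 2 (by decide))) (h2 2) rfl (h4 2),
    Cfsg.Agent.H38.K4.of_rat (hirr 4 (hN 4 (by decide))) (h2 4) rfl (h4 4), ?_, ?_, fun α g => ⟨?_, ?_⟩⟩
  · exact Cfsg.Agent.H38.K4.charDegree_eq (h2 2)
  · exact Cfsg.Agent.H38.K4.charDegree_eq (h2 4)
  · exact key 2 (by decide) (by rw [d2]; norm_num) u2 α g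
  · exact key 4 (by decide) (by rw [d4]; norm_num) u4 α g

/-! ### the row -/

section Row

variable {S : Type u} [Group S]

theorem card_S (h : Cfsg.Spor.IsoHN S) : Nat.card S = 273030912000000 := by
  obtain ⟨e⟩ := h
  rw [Nat.card_congr e.toEquiv]
  exact Cfsg.Agent.H38.K4.HN.card_G

theorem finite_S (h : Cfsg.Spor.IsoHN S) : Finite S :=
  Nat.finite_of_card_ne_zero (by rw [card_S h]; norm_num)

theorem simple_S (h : Cfsg.Spor.IsoHN S) : IsSimpleGroup S := by
  obtain ⟨e⟩ := h
  have : IsSimpleGroup Cfsg.Spor.HN := Cfsg.Agent.S1701.result.1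
  exact (MulEquiv.isSimpleGroup_congr e).2 this

theorem d3 (h : Cfsg.Spor.IsoHN S) : D3 S := by
  have := finite_S h
  have : Finite Cfsg.Spor.HN := finite_S (S := Cfsg.Spor.HN) ⟨MulEquiv.refl _⟩
  obtain ⟨e⟩ := h
  exact d3_congr e d3_HN

theorem base (h : Cfsg.Spor.IsoHN S) : BaseRow S := Or.inl ⟨Cfsg.Agent.H38.K4.HN.good5 h, d3 h⟩

/-- **three good characters invariant under all automorphisms** -/
theorem ginv3 (h : Cfsg.Spor.IsoHN S) (τ : MulAut S) : GInv3 τ := by
  have := finite_S h
  have hC := Cfsg.Agent.H989.TwoCSpor.twoC_hn h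
  obtain ⟨e⟩ := h
  obtain ⟨b, c, hb, hc, db, dc, hinv⟩ := inv3
  let α : MulAut Cfsg.Spor.HN := (e.symm.trans τ).trans e
  have hα : ∀ x : S, e (τ x) = α (e x) := fun x => by
    show e (τ x) = e (τ (e.symm (e x)))
    rw [e.symm_apply_apply]
  have g1 := H329.K4.good_one (S := S) hC
  have g2 := H329.K4.good_of hC (Cfsg.Agent.H38.K4.oddIrr_comp e hb.1) (Cfsg.Agent.H38.K4.sigFix_comp e hb.2)
  have g3 := H329.K4.good_of hC (Cfsg.Agent.H38.K4.oddIrr_comp e hc.1) (Cfsg.Agent.H38.K4.sigFix_comp e hc.2)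
  have hdeg : ∀ ψ : Cfsg.Spor.HN → ℂ, charDegree (fun s : S => ψ (e s)) = charDegree ψ := by
    intro ψ
    show ⌊(ψ (e 1)).re⌋₊ = ⌊(ψ 1).re⌋₊
    rw [map_one]
  have d1 : charDegree (fun _ : S => (1 : ℂ)) = 1 := by
    apply Cfsg.Agent.Blocks.Basic.charDegree_of_eq
    simp
  have d2 := hdeg b
  have d3 := hdeg c
  rw [db] at d2
  rw [dc] at d3
  refine ⟨![fun _ => 1, fun s => b (e s), fun s => c (e s)], ?_, ?_⟩
  · have key : ∀ i : Fin 3, charDegree ((![fun _ => 1, fun s => b (e s), fun s => c (e s)] : Fin 3 → S → ℂ) i) =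
        (![1, 16929, 653125] : Fin 3 → ℕ) i := by
      intro i
      fin_cases i
      · exact d1
      · exact d2
      · exact d3
    have hinj : Function.Injective (![1, 16929, 653125] : Fin 3 → ℕ) := by decide
    intro i j hij
    apply hinj
    rw [← key, ← key, hij]
  · intro i
    fin_cases i
    · exact ⟨g1, fun _ => rfl⟩
    · refine ⟨g2, fun x => ?_⟩
      show b (e (τ x)) = b (e x)
      rw [hα, (hinv α _).1]
    · refine ⟨g3, fun x => ?_⟩
      show c (e (τ x)) = c (e x)
      rw [hα, (hinv α _).2]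

/-- the square of an automorphism is inner -/
theorem sq_inner (h : Cfsg.Spor.IsoHN S) (τ : MulAut S) : ∃ s : S, ∀ x, τ (τ x) = s * x * s⁻¹ := by
  have hO : ∀ α : MulAut Cfsg.Spor.HN, α * α ∈ (MulAut.conj : Cfsg.Spor.HN →* MulAut Cfsg.Spor.HN).range := by
    intro α
    rcases Cfsg.Agent.KFacts.HN.out_index with h1 | h1
    · rw [Subgroup.index_eq_one] at h1
      rw [h1]
      exact Subgroup.mem_top _
    · exact Subgroup.mul_self_mem_of_index_two h1 α
  obtain ⟨e⟩ := h
  let α : MulAut Cfsg.Spor.HN := (e.symm.trans τ).trans e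
  obtain ⟨t, ht⟩ := hO α
  refine ⟨e.symm t, fun x => ?_⟩
  have h1 : α (α (e x)) = t * e x * t⁻¹ := by
    rw [← MulAut.mul_apply, ← ht, MulAut.conj_apply]
  have h2 : α (α (e x)) = e (τ (τ x)) := by
    show e (τ (e.symm (e (τ (e.symm (e x)))))) = _
    rw [e.symm_apply_apply, e.symm_apply_apply]
  rw [h2] at h1
  apply e.injective
  rw [h1, map_mul, map_mul, map_inv, e.apply_symm_apply]

/-- **the row `HN`**, modulo the lemma (JORDAN) -/
theorem row_of (hJ : ∀ {S : Type u} [Group S] [Finite S] [IsSimpleGroup S] (τ : MulAut S), D3 S →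
    (∃ s : S, ∀ x, τ (τ x) = s * x * s⁻¹) → ¬ IsInn τ → D3 (AutExt τ)) (h : Cfsg.Spor.IsoHN S) : Row S := by
  have := finite_S h
  have := simple_S h
  exact ⟨base h, fun τ _ h2 => iff_of_true (ginv3 h τ) (hJ τ (d3 h) (sq_inner h τ) h2)⟩

end Row

end Cfsg.Agent.H859.K547.HN
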