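import Cfsg.Agent.H859.K547.HN
import Cfsg.Agent.H845.K547.Jordan

/-!
# S4547: the row of the Harada-Norton group (helper859)
-/

set_option autoImplicit false

namespace Cfsg.Agent.H859.K547.HN

open Cfsg Cfsg.Agent.H821.K547

universe u

/-- **the row `HN`** -/
theorem row {S : Type u} [Group S] (h : Cfsg.Spor.IsoHN S) : Row S := by
  have hfS := finite_S h
  have hsS := simple_S h
  have hna : ¬ IsMulCommutative S := by
    intro hc
    let _ : CommGroup S := { (inferInstance : Group S) with mul_comm := fun a b => hc.is_comm.comm a b }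
    have h1 := IsSimpleGroup.prime_card (α := S)
    rw [card_S h] at h1
    norm_num at h1
  refine ⟨base h, fun τ _ h2 => iff_of_true (ginv3 h τ) (Cfsg.Agent.H845.K547.d3_autExt hna (d3 h) ?_ h2)⟩
  obtain ⟨s, hs⟩ := sq_inner h τ
  exact ⟨s, fun x => by rw [pow_two]; exact hs x⟩

end Cfsg.Agent.H859.K547.HN
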