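import Mathlib
import Cfsg.Agent.H821.K547.Defs

/-!
# S4547, small tools (helper859)

`rk_of_normal` : a group with a normal subgroup of index at least `2 ^ n` containing all squares maps onto `C₂ ^ n`;
`d3_of_sylow`, `d3_congr`.
-/

set_option autoImplicit false

namespace Cfsg.Agent.H859.K547

open Cfsg.Agent.H821.K547

universe u v

/-- an elementary abelian quotient -/
theorem rk_of_normal {P : Type u} [Group P] [Finite P] (N : Subgroup P) [N.Normal] (hsq : ∀ x : P, x * x ∈ N) {n : ℕ}
    (h : 2 ^ n ≤ N.index) : Rk n P := by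
  let A := P ⧸ N
  have hA2 : ∀ a : A, a * a = 1 := by
    intro a
    obtain ⟨x, rfl⟩ := QuotientGroup.mk_surjective a
    rw [← QuotientGroup.mk_mul, QuotientGroup.eq_one_iff]
    exact hsq x
  have hinv : ∀ a : A, a⁻¹ = a := fun a => inv_eq_of_mul_eq_one_left (hA2 a)
  let _ : CommGroup A := { (inferInstance : Group A) with
    mul_comm := fun a b => by
      have h1 : (a * b)⁻¹ = a * b := hinv _
      rw [mul_inv_rev, hinv, hinv] at h1
      exact h1.symm }
  let _ : Module (ZMod 2) (Additive A) := AddCommGroup.zmodModule (n := 2) fun a => by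
    rw [two_nsmul]
    exact hA2 a.toMul
  have : Finite (Additive A) := Finite.of_equiv A Additive.ofMul
  have : Fintype (Additive A) := Fintype.ofFinite _
  have hcard : Nat.card (Additive A) = N.index := by
    rw [Subgroup.index]
    exact Nat.card_congr Additive.toMul
  set d := Module.finrank (ZMod 2) (Additive A) with hd
  have h2 : Fintype.card (Additive A) = 2 ^ d := by
    have := Module.card_eq_pow_finrank (K := ZMod 2) (V := Additive A)
    rwa [ZMod.card] at this
  have hnd : n ≤ d := by
    rw [← hcard, Nat.card_eq_fintype_card, h2] at h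
    exact (Nat.pow_le_pow_iff_right (by norm_num)).1 h
  let b := Module.finBasis (ZMod 2) (Additive A)
  let L : Additive A →ₗ[ZMod 2] (Fin n → ZMod 2) :=
    (LinearMap.funLeft (ZMod 2) (ZMod 2) (Fin.castLE hnd)).comp b.equivFun.toLinearMap
  have hL : Function.Surjective L := by
    refine Function.Surjective.comp (g := LinearMap.funLeft (ZMod 2) (ZMod 2) (Fin.castLE hnd)) ?_ b.equivFun.surjective
    exact LinearMap.funLeft_surjective_of_injective _ _ _ (Fin.castLE_injective hnd)
  refine ⟨(AddMonoidHom.toMultiplicative L.toAddMonoidHom).comp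
    ((MulEquiv.refl A : A ≃* Multiplicative (Additive A)).toMonoidHom.comp (QuotientGroup.mk' N)), ?_⟩
  intro y
  obtain ⟨a, ha⟩ := hL y.toAdd
  obtain ⟨x, hx⟩ := QuotientGroup.mk_surjective (a.toMul : A)
  refine ⟨x, ?_⟩
  apply Multiplicative.toAdd.injective
  rw [← ha]
  show L (Additive.ofMul (QuotientGroup.mk x : A)) = L a
  rw [hx]
  rfl

theorem rk_congr {P : Type u} {P' : Type v} [Group P] [Group P'] (e : P ≃* P') {n : ℕ} (h : Rk n P') : Rk n P := by
  obtain ⟨f, hf⟩ := h
  exact ⟨f.comp e.toMonoidHom, hf.comp e.surjective⟩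

/-- one Sylow subgroup is enough -/
theorem d3_of_sylow {G : Type u} [Group G] [Finite G] (Q : Sylow 2 G) (h : Rk 3 Q) : D3 G := by
  intro Q'
  exact rk_congr (Sylow.equiv Q' Q) h

theorem d3_congr {G : Type u} {G' : Type v} [Group G] [Group G'] [Finite G] [Finite G'] (e : G ≃* G') (h : D3 G') :
    D3 G := by
  obtain ⟨Q⟩ : Nonempty (Sylow 2 G') := inferInstance
  have hc : Nat.card ((Q : Subgroup G').map e.symm.toMonoidHom) = 2 ^ (Nat.card G).factorization 2 := by
    rw [Subgroup.card_map_of_injective e.symm.injective, Nat.card_congr e.toEquiv]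
    exact Q.card_eq_multiplicity
  refine d3_of_sylow (Sylow.ofCard _ hc) ?_
  exact rk_congr ((Q : Subgroup G').equivMapOfInjective e.symm.toMonoidHom e.symm.injective).symm (h Q)

end Cfsg.Agent.H859.K547
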